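import Mathlib.RingTheory.KrullDimension.Polynomial
import Mathlib.RingTheory.Ideal.KrullsHeightTheorem
import Mathlib.RingTheory.Localization.Algebra
import Mathlib.RingTheory.AlgebraicIndependent.TranscendenceBasis
import Mathlib.RingTheory.AlgebraicIndependent.Transcendental
import Mathlib.RingTheory.Algebraic.Integral

/-!
# Heights of primes in `A[X]`
-/

universe u

open Polynomial

namespace Groth.Agent.PolyHt26

variable {A : Type u} [CommRing A]

attribute [local instance] Polynomial.algebra Polynomial.isLocalization in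
theorem height_eq_one_of_domain {D : Type u} [CommRing D] [IsDomain D] (Q : Ideal D[X]) [Q.IsPrime]
    (hQ : Q.comap C = ⊥) (h0 : Q ≠ ⊥) : Q.height = 1 := by
  let K := FractionRing D
  let M : Submonoid D[X] := (nonZeroDivisors D).map C
  haveI : IsLocalization M K[X] := Polynomial.isLocalization _ _
  have disj : Disjoint (M : Set D[X]) Q := by
    refine Set.disjoint_left.mpr fun a ⟨b, hb, hba⟩ ha => ?_
    have : b ∈ Q.comap C := by rw [Ideal.mem_comap, hba]; exact ha
    rw [hQ, Ideal.mem_bot] at this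
    exact nonZeroDivisors.ne_zero hb this
  let Q' := Q.map (algebraMap D[X] K[X])
  haveI hQ' : Q'.IsPrime := IsLocalization.isPrime_of_isPrime_disjoint M _ Q ‹_› disj
  have hu : Q'.comap (algebraMap D[X] K[X]) = Q :=
    IsLocalization.comap_map_of_isPrime_disjoint M K[X] ‹_› disj
  haveI : Q'.IsMaximal := IsPrime.to_maximal_ideal fun e => h0 (by
    rw [← hu, e]
    exact Ideal.comap_bot_of_injective _
      (Polynomial.map_injective _ (IsFractionRing.injective D K)))
  rw [← IsPrincipalIdealRing.height_eq_one_of_isMaximal Q' (Polynomial.not_isField K),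
    ← IsLocalization.height_under M Q', Ideal.under_def, hu]

variable [IsNoetherianRing A] (p : Ideal A) [p.IsPrime]

theorem height_eq (q : Ideal A[X]) [q.IsPrime] [q.LiesOver p] :
    (p.map C).height = p.height ∧
      (q ≠ p.map C → q.height = p.height + 1) := by
  classical
  let P := p.map (C : A →+* A[X])
  haveI : P.IsPrime := Ideal.isPrime_map_C_of_isPrime
  let e : (A[X] ⧸ P) ≃+* (A ⧸ p)[X] := (Ideal.polynomialQuotientEquivQuotientPolynomial p).symm
  have hP : P.comap (C : A →+* A[X]) = p := le_antisymm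
    (fun a ha => by
      have := Ideal.mem_map_C_iff.mp ha 0
      rwa [coeff_C_zero] at this)
    Ideal.le_comap_map
  haveI : P.LiesOver p := ⟨hP.symm⟩
  constructor
  · rw [Ideal.height_eq_height_add_of_liesOver_of_hasGoingDown p P]
    show p.height + (P.map (Ideal.Quotient.mk P)).height = _
    rw [Ideal.map_quotient_self, Ideal.height_bot, add_zero]
  · intro hne
    have hle : P ≤ q := Ideal.map_le_iff_le_comap.mpr (Ideal.LiesOver.over (P := q) (p := p)).le
    rw [Ideal.height_eq_height_add_of_liesOver_of_hasGoingDown p q]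
    show p.height + (q.map (Ideal.Quotient.mk P)).height = _
    haveI : (q.map (Ideal.Quotient.mk P)).IsPrime :=
      Ideal.map_isPrime_of_surjective Ideal.Quotient.mk_surjective (by rwa [Ideal.mk_ker])
    let Q := (q.map (Ideal.Quotient.mk P)).map e
    haveI : Q.IsPrime := Ideal.map_isPrime_of_equiv e
    have hmem : ∀ f : A[X], Ideal.Quotient.mk P f ∈ q.map (Ideal.Quotient.mk P) ↔ f ∈ q := fun f => by
      rw [← Ideal.mem_comap, Ideal.comap_map_of_surjective _ Ideal.Quotient.mk_surjective,
        ← RingHom.ker_eq_comap_bot, Ideal.mk_ker, sup_eq_left.mpr hle]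
    have heC : ∀ a : A, e (Ideal.Quotient.mk P (C a)) = C (Ideal.Quotient.mk p a) := fun a => by
      simp [e, P, Ideal.polynomialQuotientEquivQuotientPolynomial]
    rw [← e.height_map, height_eq_one_of_domain Q ?_ ?_]
    · rw [eq_bot_iff]
      intro d hd
      obtain ⟨a, rfl⟩ := Ideal.Quotient.mk_surjective d
      rw [Ideal.mem_comap, ← heC, Ideal.mem_map_iff_of_surjective e e.surjective] at hd
      obtain ⟨y, hy, hye⟩ := hd
      obtain rfl := e.injective hye
      rw [hmem] at hy
      rw [Ideal.mem_bot, Ideal.Quotient.eq_zero_iff_mem, Ideal.LiesOver.over (P := q) (p := p)]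
      exact hy
    · intro h0
      refine hne (le_antisymm (fun f hf => ?_) hle)
      have : e (Ideal.Quotient.mk P f) ∈ Q := Ideal.mem_map_of_mem _ ((hmem f).mpr hf)
      rw [h0, Ideal.mem_bot, map_eq_zero_iff e e.injective, Ideal.Quotient.eq_zero_iff_mem] at this
      exact this

theorem height_add_trdeg (q : Ideal A[X]) [q.IsPrime] [q.LiesOver p] :
    (p.height : Cardinal.{u}) + 1 = (q.height : Cardinal.{u}) + Algebra.trdeg (A ⧸ p) (A[X] ⧸ q) := by
  classical
  haveI : Module.IsTorsionFree (A ⧸ p) (A[X] ⧸ q) :=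
    Module.isTorsionFree_iff_algebraMap_injective.mpr
      (FaithfulSMul.algebraMap_injective (A ⧸ p) (A[X] ⧸ q))
  let x : A[X] ⧸ q := Ideal.Quotient.mk q X
  have hcomp : (algebraMap (A ⧸ p) (A[X] ⧸ q)).comp (Ideal.Quotient.mk p) =
      (Ideal.Quotient.mk q).comp C := RingHom.ext fun a => rfl
  have hx : ∀ g : A[X], aeval x (g.map (Ideal.Quotient.mk p)) = Ideal.Quotient.mk q g := fun g => by
    rw [aeval_def, eval₂_map, hcomp, ← hom_eval₂, eval₂_C_X]
  have hsurj : Function.Surjective (aeval x : (A ⧸ p)[X] →ₐ[A ⧸ p] A[X] ⧸ q) := fun z => by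
    obtain ⟨g, rfl⟩ := Ideal.Quotient.mk_surjective z
    exact ⟨_, hx g⟩
  by_cases hq : q = p.map C
  · have hinj : Function.Injective (aeval x : (A ⧸ p)[X] →ₐ[A ⧸ p] A[X] ⧸ q) := by
      rw [injective_iff_map_eq_zero]
      intro f hf
      obtain ⟨g, rfl⟩ := Polynomial.map_surjective _ Ideal.Quotient.mk_surjective f
      rw [hx, Ideal.Quotient.eq_zero_iff_mem, hq, Ideal.mem_map_C_iff] at hf
      ext n
      rw [coeff_map, coeff_zero, Ideal.Quotient.eq_zero_iff_mem]
      exact hf n
    rw [← (AlgEquiv.ofBijective _ ⟨hinj, hsurj⟩).trdeg_eq, Polynomial.trdeg_of_isDomain, hq,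
      (height_eq p q).1]
  · rw [(height_eq p q).2 hq]
    have hle : p.map C ≤ q :=
      Ideal.map_le_iff_le_comap.mpr (Ideal.LiesOver.over (P := q) (p := p)).le
    obtain ⟨g, hg, hgP⟩ := SetLike.exists_of_lt (lt_of_le_of_ne hle (Ne.symm hq))
    have halg : IsAlgebraic (A ⧸ p) x := by
      refine ⟨g.map (Ideal.Quotient.mk p), fun h0 => hgP (Ideal.mem_map_C_iff.mpr fun n => ?_), ?_⟩
      · have := congrArg (fun f => f.coeff n) h0
        simpa [coeff_map, Ideal.Quotient.eq_zero_iff_mem] using this
      · rw [hx, Ideal.Quotient.eq_zero_iff_mem]; exact hg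
    haveI : Algebra.IsAlgebraic (A ⧸ p) (A[X] ⧸ q) := by
      refine ⟨fun z => ?_⟩
      obtain ⟨f, rfl⟩ := hsurj z
      exact Algebra.isAlgebraic_adjoin_singleton_iff.mpr halg _ (aeval_mem_adjoin_singleton _ _)
    rw [trdeg_eq_zero, add_zero]
    simp

end Groth.Agent.PolyHt26
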